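import Groth.Prelude.Def_W4c1limliniiiiLG
import Groth.Agent.Lib.Grass26.Rep
import Groth.Agent.Lib.Grass26.Pluecker
import Groth.Agent.Lib.Chow.Prod

/-!
# Representability of linked Grassmannians
-/

set_option autoImplicit false
set_option linter.all false
set_option backward.isDefEq.respectTransparency false

universe u

noncomputable section

open CategoryTheory CategoryTheory.Limits AlgebraicGeometry TensorProduct Opposite

namespace GrothLib.LinkGr10

open GrothLib.Grass26

variable {R : Type u} [CommRing R] {M : Type u} [AddCommGroup M] [Module R M] {k : ℕ}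

/-- Finite powers of a representing object. -/
theorem exists_pow (G : Over (Spec (CommRingCat.of R))) [IsProper G.hom]
    (eG : ∀ A : CommAlgCat.{u} R, Pt G A ≃ (GrF R M k).obj A)
    (heG : ∀ (A B : CommAlgCat.{u} R) (φ : A ⟶ B) (g : Pt G A) (g' : Pt G B),
      g'.left = Spec.map (CommRingCat.ofHom φ.hom.toRingHom) ≫ g.left →
        eG B g' = (GrF R M k).map φ (eG A g)) :
    ∀ m : ℕ, ∃ (X : Over (Spec (CommRingCat.of R))) (_ : IsProper X.hom)
      (e : ∀ A : CommAlgCat.{u} R, Pt X A ≃ (Fin m → (GrF R M k).obj A)),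
      ∀ (A B : CommAlgCat.{u} R) (φ : A ⟶ B) (x : Pt X A) (x' : Pt X B),
        x'.left = Spec.map (CommRingCat.ofHom φ.hom.toRingHom) ≫ x.left →
          ∀ i, e B x' i = (GrF R M k).map φ (e A x i) := by
  intro m
  induction m with
  | zero =>
    refine ⟨Over.mk (𝟙 _), inferInstanceAs (IsProper (𝟙 _)), fun A => ?_, fun A B φ x x' _ i => i.elim0⟩
    exact
      { toFun := fun _ i => i.elim0
        invFun := fun _ => Over.homMk (Spec.map (CommRingCat.ofHom (algebraMap R A))) (Category.comp_id _)
        left_inv := fun x => by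
          ext1
          exact ((Category.comp_id x.left).symm.trans (Over.w x)).symm
        right_inv := fun v => funext fun i => i.elim0 }
  | succ m ih =>
    obtain ⟨X, hX, e, he⟩ := ih
    haveI := hX
    let Y : Over (Spec (CommRingCat.of R)) := Over.mk (pullback.fst G.hom X.hom ≫ G.hom)
    haveI : IsProper Y.hom := inferInstanceAs (IsProper (pullback.fst G.hom X.hom ≫ G.hom))
    let E : ∀ A : CommAlgCat.{u} R, Pt Y A ≃ Pt G A × Pt X A := fun A =>
      { toFun := fun y => (Over.homMk (y.left ≫ pullback.fst _ _) (by rw [Category.assoc]; exact Over.w y),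
          Over.homMk (y.left ≫ pullback.snd _ _) (by
            rw [Category.assoc, ← pullback.condition]; exact Over.w y))
        invFun := fun p => Over.homMk (pullback.lift p.1.left p.2.left ((Over.w p.1).trans (Over.w p.2).symm)) (by
          show _ ≫ pullback.fst G.hom X.hom ≫ G.hom = _
          rw [pullback.lift_fst_assoc]; exact Over.w p.1)
        left_inv := fun y => by
          ext1
          apply pullback.hom_ext <;> simp
        right_inv := fun p => by
          refine Prod.ext ?_ ?_ <;> ext1 <;> simp }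
    refine ⟨Y, inferInstance, fun A => (E A).trans (((eG A).prodCongr (e A)).trans
      (Fin.consEquiv (fun _ : Fin (m + 1) => (GrF R M k).obj A))), fun A B φ y y' hy i => ?_⟩
    induction i using Fin.cases with
    | zero =>
      show eG B (E B y').1 = (GrF R M k).map φ (eG A (E A y).1)
      refine heG A B φ _ _ ?_
      show y'.left ≫ pullback.fst _ _ = _
      rw [hy, Category.assoc]
      rfl
    | succ i =>
      show e B (E B y').2 i = (GrF R M k).map φ (e A (E A y).2 i)
      refine he A B φ _ _ ?_ i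
      show y'.left ≫ pullback.snd _ _ = _
      rw [hy, Category.assoc]
      rfl

theorem chg_baseChange (v : M →ₗ[R] M) {A B : Type u} [CommRing A] [CommRing B] [Algebra R A] [Algebra R B]
    (φ : A →ₐ[R] B) (z : A ⊗[R] M) : chg φ (v.baseChange A z) = v.baseChange B (chg φ z) := by
  induction z with
  | zero => simp
  | tmul a m => simp
  | add x y hx hy => simp [map_add, hx, hy]

theorem content_image_map (v : M →ₗ[R] M) {A B : Type u} [CommRing A] [CommRing B] [Algebra R A] [Algebra R B]
    (φ : A →ₐ[R] B) (V W : Module.Grassmannian A (A ⊗[R] M) k) :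
    content (Module.Grassmannian.map φ W) (v.baseChange B '' ((Module.Grassmannian.map φ V).toSubmodule : Set (B ⊗[R] M))) =
      (content W (v.baseChange A '' (V.toSubmodule : Set (A ⊗[R] M)))).map φ.toRingHom := by
  refine content_map φ W _ _ ?_ ?_
  · rintro _ ⟨_, ⟨z, hz, rfl⟩, rfl⟩
    refine Submodule.subset_span ⟨chg φ z, ?_, (chg_baseChange v φ z).symm⟩
    rw [map_eq_span]
    exact Submodule.subset_span ⟨z, hz, rfl⟩
  · rintro _ ⟨y, hy, rfl⟩
    rw [SetLike.mem_coe, map_eq_span] at hy
    induction hy using Submodule.span_induction with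
    | mem z hz =>
      obtain ⟨x, hx, rfl⟩ := hz
      exact Submodule.subset_span ⟨_, ⟨x, hx, rfl⟩, chg_baseChange v φ x⟩
    | zero => simp
    | add a b _ _ ha hb => rw [map_add]; exact add_mem ha hb
    | smul c a _ ha => rw [map_smul]; exact Submodule.smul_mem _ _ ha

/-- The linked Grassmannian is representable by a proper scheme. -/
theorem exists_rep (d r n : ℕ) (f g : Fin n → ((Fin d → R) →ₗ[R] (Fin d → R))) :
    ∃ (X : Over (Spec (CommRingCat.of R)))
      (e : ∀ A : CommAlgCat.{u} R,
        (Over.mk (Spec.map (CommRingCat.ofHom (algebraMap R A))) ⟶ X) ≃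
          W4c1limliniiii.LGPoints R d r n f g A),
      (∀ (A B : CommAlgCat.{u} R) (φ : A ⟶ B)
        (x : Over.mk (Spec.map (CommRingCat.ofHom (algebraMap R A))) ⟶ X)
        (x' : Over.mk (Spec.map (CommRingCat.ofHom (algebraMap R B))) ⟶ X),
        x'.left = Spec.map (CommRingCat.ofHom φ.hom.toRingHom) ≫ x.left →
          ∀ i, (e B x').1 i = Module.Grassmannian.map φ.hom ((e A x).1 i)) ∧
      IsProper X.hom := by
  obtain ⟨G, eG, heG⟩ := Grass26.exists_rep R (Fin d → R) (d - r)
  obtain ⟨c, hc, hcG⟩ := exists_pluecker_rep (N := d) (q := d - r) (Nat.sub_le d r)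
    ((Pi.basisFun R (Fin d)).reindex Equiv.ulift.symm) G eG heG
  haveI : IsProper G.hom := by
    haveI := GrothLib.Chow.isProper_toBase (d.choose (d - r) - 1) (Spec (CommRingCat.of R))
    rw [← hcG]; infer_instance
  obtain ⟨P, hP, eP, heP⟩ := exists_pow G eG heG (n + 1)
  haveI := hP
  let 𝔞 : ∀ A : CommAlgCat.{u} R, Pt P A → Ideal A := fun A x => ⨆ i : Fin n,
    content (eP A x i.succ) ((f i).baseChange A '' ((eP A x i.castSucc).toSubmodule : Set (A ⊗[R] (Fin d → R)))) ⊔
    content (eP A x i.castSucc) ((g i).baseChange A '' ((eP A x i.succ).toSubmodule : Set (A ⊗[R] (Fin d → R))))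
  obtain ⟨Z, ι, hι, hZ⟩ := exists_closedSubscheme 𝔞 (fun A B φ x x' h => by
    simp only [𝔞, Ideal.map_iSup, Ideal.map_sup]
    refine iSup_congr fun i => ?_
    rw [heP A B φ x x' h i.succ, heP A B φ x x' h i.castSucc]
    exact congrArg₂ (· ⊔ ·) (content_image_map (f i) φ.hom _ _) (content_image_map (g i) φ.hom _ _))
  haveI := hι
  have hmem : ∀ (A : CommAlgCat.{u} R) (x : Pt P A), 𝔞 A x = ⊥ ↔ eP A x ∈ W4c1limliniiii.LGPoints R d r n f g A := by
    intro A x
    simp only [𝔞, iSup_eq_bot, sup_eq_bot_iff, content_eq_bot_iff, Set.image_subset_iff]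
    refine forall_congr' fun i => and_congr ?_ ?_ <;> exact Submodule.map_le_iff_le_comap.symm
  let X : Over (Spec (CommRingCat.of R)) := Over.mk (ι ≫ P.hom)
  let j : X ⟶ P := Over.homMk ι rfl
  have hin : ∀ (A : CommAlgCat.{u} R) (x : Pt X A), eP A (x ≫ j) ∈ W4c1limliniiii.LGPoints R d r n f g A :=
    fun A x => (hmem A _).1 ((hZ A _).1 ⟨x.left, rfl⟩)
  have hout : ∀ (A : CommAlgCat.{u} R) (v : W4c1limliniiii.LGPoints R d r n f g A),
      ∃ h : Spec (CommRingCat.of A) ⟶ Z, h ≫ ι = ((eP A).symm v.1).left :=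
    fun A v => (hZ A _).2 ((hmem A _).2 (by rw [Equiv.apply_symm_apply]; exact v.2))
  choose h hh using hout
  let e : ∀ A : CommAlgCat.{u} R, Pt X A ≃ W4c1limliniiii.LGPoints R d r n f g A := fun A =>
    { toFun := fun x => ⟨eP A (x ≫ j), hin A x⟩
      invFun := fun v => Over.homMk (h A v) (by
        show h A v ≫ ι ≫ P.hom = _
        rw [← Category.assoc, hh]
        exact Over.w ((eP A).symm v.1))
      left_inv := fun x => by
        ext1
        rw [← cancel_mono ι]
        exact (hh A _).trans (by rw [Equiv.symm_apply_apply]; rfl)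
      right_inv := fun v => by
        refine Subtype.ext ?_
        show eP A (_ ≫ j) = v.1
        rw [← Equiv.eq_symm_apply]
        ext1
        exact hh A v }
  refine ⟨X, e, fun A B φ x x' hx i => ?_, inferInstanceAs (IsProper (ι ≫ P.hom))⟩
  exact heP A B φ _ _ (by
    show x'.left ≫ ι = _ ≫ x.left ≫ ι
    rw [hx, Category.assoc]) i

end GrothLib.LinkGr10
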